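import Cfsg.Agent.Lib.SylowCentralAut.Fusion
import Cfsg.Agent.Lib.ZStar.FusionCentre
import Cfsg.Agent.Lib.ZStar.Main
import Cfsg.Agent.Lib.CoprimeInvolution.Basic
import Cfsg.Agent.Lib.Transfer.Frobenius

/-!
# Glauberman's theorem on automorphisms centralising a Sylow 2-subgroup

`G ⊴ A` with `C_A(G) = 1` and `G` without odd normal subgroups, `S` a Sylow 2-subgroup of `G`.

* `eq_bot_of_le_commutator`: a 2-subgroup `Q ≤ C_A(S)` with `Q = [Q, x]` for some `x ∈ C_A(S)` is trivial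
* `hasNormalPComplement_centralizer`: `C_A(S)` has a normal 2-complement
-/

set_option autoImplicit false
set_option linter.style.haveILetI false
set_option linter.unusedSectionVars false

namespace Cfsg.Agent.SylowCentralAut

open Subgroup Cfsg
open scoped Pointwise

universe u

variable {A : Type u} [Group A] [Finite A] {G S : Subgroup A}

theorem mem_of_isPGroup_sup (hS2 : IsPGroup 2 S) (hSG : S ≤ G) (hidx : ¬ 2 ∣ S.relIndex G)
    {R : Subgroup A} (hR2 : IsPGroup 2 R) (hSR : S ≤ R) (hRG : R ≤ G) : R ≤ S := by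
  haveI : Fact (Nat.Prime 2) := ⟨Nat.prime_two⟩
  set P : Sylow 2 G := (hS2.comap_subtype : IsPGroup 2 (S.subgroupOf G)).toSylow hidx
  have h : R.subgroupOf G = (P : Subgroup G) :=
    P.3 hR2.comap_subtype (fun z hz => hSR hz)
  intro r hr
  exact (h.le (show (⟨r, hRG hr⟩ : G) ∈ R.subgroupOf G from hr) :)

variable (hG : G.Normal) (hcent : centralizer (G : Set A) = ⊥)
  (hO : ∀ N : Subgroup A, N ≤ G → G ≤ normalizer (N : Set A) → Odd (Nat.card N) → N = ⊥)
  (hS2 : IsPGroup 2 S) (hSG : S ≤ G) (hidx : ¬ 2 ∣ S.relIndex G)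

include hG hcent hO hS2 hSG hidx

/-- A 2-subgroup of `C_A(S)` generated by the commutators with an element of `C_A(S)` normalising it
is trivial. -/
theorem eq_bot_of_le_commutator {Q : Subgroup A} (hQ2 : IsPGroup 2 Q)
    (hQS : Q ≤ centralizer (S : Set A)) {x : A} (hx : x ∈ centralizer (S : Set A))
    (hxQ : ∀ a ∈ Q, x * a * x⁻¹ ∈ Q)
    (hfull : Q ≤ closure ((fun a => a⁻¹ * (x * a * x⁻¹)) '' (Q : Set A))) : Q = ⊥ := by
  haveI := hG
  haveI : Fact (Nat.Prime 2) := ⟨Nat.prime_two⟩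
  by_contra hne
  set H := G ⊔ Q with hH
  have hGH : G ≤ H := le_sup_left
  have hQH : Q ≤ H := le_sup_right
  have hQmap : Q.map (MulAut.conj x).toMonoidHom = Q :=
    eq_of_le_of_card_ge (by rintro _ ⟨a, ha, rfl⟩; exact hxQ a ha)
      (card_map_of_injective (MulAut.conj x).injective).ge
  have hxH : x ∈ normalizer (H : Set A) := by
    rw [mem_normalizer_iff]
    have hmap : H.map (MulAut.conj x).toMonoidHom = H := by
      rw [hH, Subgroup.map_sup, hQmap,
        show G.map (MulAut.conj x).toMonoidHom = G from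
          eq_of_le_of_card_ge (by rintro _ ⟨a, ha, rfl⟩; exact hG.conj_mem a ha x)
            (card_map_of_injective (MulAut.conj x).injective).ge]
    intro y
    refine ⟨fun hy => hmap.le ⟨y, hy, rfl⟩, fun hy => ?_⟩
    obtain ⟨z, hz, e⟩ := hmap.ge hy
    rwa [(MulAut.conj x).injective e] at hz
  set α : MulAut H := normalizerMonoidHom H ⟨x, hxH⟩
  have hαv : ∀ y : H, (α y : A) = x * y * x⁻¹ := fun y => rfl
  -- a Sylow subgroup containing `S` and `Q`
  have hSQ : IsPGroup 2 (Q ⊔ S : Subgroup A) :=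
    hQ2.to_sup_of_normal_right' hS2 (hQS.trans (centralizer_le_normalizer _))
  obtain ⟨T, hT⟩ := (hSQ.comap_subtype : IsPGroup 2 ((Q ⊔ S).subgroupOf H)).exists_le_sylow
  have hTG : ∀ s : H, s ∈ (T : Subgroup H) → (s : A) ∈ G → (s : A) ∈ S := by
    intro s hsT hsG
    refine mem_of_isPGroup_sup hS2 hSG hidx
      ((T.2.to_le (inf_le_left : (T : Subgroup H) ⊓ G.subgroupOf H ≤ _)).map H.subtype)
      (fun t ht => ⟨⟨t, hGH (hSG ht)⟩, ⟨hT (show t ∈ Q ⊔ S from mem_sup_right ht), hSG ht⟩, rfl⟩)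
      ?_ ⟨s, ⟨hsT, hsG⟩, rfl⟩
    rintro _ ⟨y, hy, rfl⟩
    exact hy.2
  have hsetup : Setup T (G.subgroupOf H) (Q.subgroupOf H) α := by
    constructor
    · exact hG.subgroupOf H
    · rw [← subgroupOf_sup hGH hQH, subgroupOf_self]
    · exact fun q hq => hT (show (q : A) ∈ Q ⊔ S from mem_sup_left hq)
    · exact fun q hq s hsT hsG => Subtype.ext ((hQS hq) _ (hTG s hsT hsG)).symm
    · intro s hsT hsG
      refine Subtype.ext ?_
      rw [hαv, show (x : A) * s = s * x from (hx _ (hTG s hsT hsG)).symm, mul_inv_cancel_right]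
    · exact fun g hg => show (α g : A) ∈ G by rw [hαv]; exact hG.conj_mem _ hg x
    · exact fun q hq => show (α q : A) ∈ Q by rw [hαv]; exact hxQ _ hq
    · intro q hq
      have h1 := hfull hq
      have h2 : closure ((fun a => a⁻¹ * (x * a * x⁻¹)) '' (Q : Set A)) ≤
          (closure ((fun a => a⁻¹ * α a) '' (Q.subgroupOf H : Set H))).map H.subtype := by
        rw [MonoidHom.map_closure, closure_le]
        rintro _ ⟨a, ha, rfl⟩
        refine subset_closure ⟨_, ⟨⟨a, hQH ha⟩, ha, rfl⟩, ?_⟩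
        show a⁻¹ * (α ⟨a, hQH ha⟩ : A) = _
        rw [hαv]
      obtain ⟨y, hy, e⟩ := h2 h1
      exact (Subtype.ext e : y = q) ▸ hy
  -- a non-trivial central element
  haveI : Nontrivial Q := (nontrivial_iff_ne_bot Q).2 hne
  haveI := hQ2.center_nontrivial
  obtain ⟨⟨a, ha⟩, ha1⟩ := exists_ne (1 : center Q)
  have hfix : ∀ y ∈ zpowers (⟨a, hQH a.2⟩ : H), ∀ g : H, g * y * g⁻¹ ∈ (T : Subgroup H) →
      g * y * g⁻¹ = y := by
    intro y hy g hg
    obtain ⟨i, rfl⟩ := mem_zpowers_iff.1 hy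
    have hyQ : (⟨a, hQH a.2⟩ : H) ^ i ∈ Q.subgroupOf H := zpow_mem (show (a : A) ∈ Q from a.2) i
    obtain ⟨q, hq, e⟩ := hsetup.fusion hyQ (g := g⁻¹) (by rwa [inv_inv])
    rw [inv_inv] at e
    rw [e]
    have hc : Commute q (⟨a, hQH a.2⟩ : H) :=
      Subtype.ext (congrArg (fun z : Q => (z : A)) (mem_center_iff.1 ha ⟨(q : A), hq⟩))
    rw [mul_assoc, ← (hc.zpow_right i).eq, inv_mul_cancel_left]
  have hZ := ZStar.FusionCentre.inZStar_aux ZStar.zStarThm _ H rfl T ⟨a, hQH a.2⟩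
    (hsetup.le (show (a : A) ∈ Q from a.2)) hfix
  set O := pPrimeCore 2 H
  haveI : O.Normal := PCore.pPrimeCore_normal
  set O' := (O ⊓ G.subgroupOf H).map H.subtype with hO'
  have hO'bot : O' = ⊥ := by
    refine hO O' ?_ ?_ ?_
    · rintro _ ⟨y, hy, rfl⟩
      exact hy.2
    · haveI : (O ⊓ G.subgroupOf H).Normal :=
        haveI := hG.subgroupOf H
        Subgroup.normal_inf_normal _ _
      intro g hg
      exact le_normalizer_map H.subtype ⟨⟨g, hGH hg⟩, (normalizer_eq_top (H := O ⊓ G.subgroupOf H)).ge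
        (mem_top _), rfl⟩
    · rw [hO', card_map_of_injective H.subtype_injective]
      have h1 := odd_card_of_coprime_two (PCore.coprime_card_pPrimeCore (p := 2) (G := H))
      obtain ⟨i, hi⟩ := card_dvd_of_le (inf_le_left : O ⊓ G.subgroupOf H ≤ O)
      rw [show Nat.card O = _ from hi] at h1
      exact (Nat.odd_mul.1 h1).1
  rw [hO', Subgroup.map_eq_bot_iff_of_injective _ H.subtype_injective] at hO'bot
  have hOtriv : ∀ o ∈ O, o = (1 : H) := by
    intro o ho
    have h1 : (o : A) ∈ centralizer (G : Set A) := fun g hg =>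
      (congrArg Subtype.val (PCore.commute_of_normal_of_disjoint inferInstance (hG.subgroupOf H)
        (disjoint_iff.2 hO'bot) ho (show (⟨g, hGH hg⟩ : H) ∈ G.subgroupOf H from hg))).symm
    rw [hcent, mem_bot] at h1
    exact Subtype.ext h1
  have hac : (a : A) ∈ centralizer (G : Set A) := by
    intro g hg
    have h1 := congrArg Subtype.val (hOtriv _ (hZ ⟨g, hGH hg⟩))
    change g * (a : A) * g⁻¹ * (a : A)⁻¹ = 1 at h1
    rwa [mul_inv_eq_one, mul_inv_eq_iff_eq_mul] at h1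
  rw [hcent, mem_bot] at hac
  exact ha1 (Subtype.ext (Subtype.ext hac))

/-- **Glauberman**: the centraliser of a Sylow 2-subgroup of `G` in `A` has a normal
2-complement. -/
theorem hasNormalPComplement_centralizer :
    HasNormalPComplement 2 (centralizer (S : Set A)) := by
  haveI : Fact (Nat.Prime 2) := ⟨Nat.prime_two⟩
  obtain ⟨P⟩ := (inferInstance : Nonempty (Sylow 2 (centralizer (S : Set A))))
  refine Transfer.hasNormalPComplement_of_centralizer P fun Q hQ g hg hco => ?_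
  set Q₀ := Q.map (centralizer (S : Set A)).subtype with hQ₀
  have hQ₀2 : IsPGroup 2 Q₀ := (P.2.to_le hQ).map _
  have hgN : (g : A) ∈ normalizer (Q₀ : Set A) := le_normalizer_map _ ⟨g, hg, rfl⟩
  set φ : MulAut Q₀ := normalizerMonoidHom Q₀ ⟨g, hgN⟩
  have hφv : ∀ y : Q₀, (φ y : A) = g * y * (g : A)⁻¹ := fun y => rfl
  have hcop : (orderOf φ).Coprime (Nat.card Q₀) := by
    obtain ⟨k, hk⟩ := IsPGroup.iff_card.1 hQ₀2
    rw [hk]
    refine (Nat.Coprime.coprime_dvd_left (orderOf_map_dvd _ _) ?_).pow_right k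
    rwa [Subgroup.orderOf_mk, Subgroup.orderOf_coe]
  set M := CoprimeInvolution.mov φ (⊤ : Subgroup Q₀)
  set Q₁ := M.map Q₀.subtype with hQ₁
  have hQ₁bot : Q₁ = ⊥ := by
    refine eq_bot_of_le_commutator hG hcent hO hS2 hSG hidx ((hQ₀2.to_subgroup M).map _) ?_ g.2 ?_ ?_
    · rintro _ ⟨y, -, rfl⟩
      obtain ⟨z, -, hz⟩ := y.2
      show (y : A) ∈ centralizer (S : Set A)
      rw [← hz]
      exact z.2
    · rintro _ ⟨y, hy, rfl⟩
      exact ⟨φ y, CoprimeInvolution.inv_mov CoprimeInvolution.inv_top y hy, hφv y⟩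
    · rintro _ ⟨y, hy, rfl⟩
      have hm : CoprimeInvolution.mov φ M = M :=
        CoprimeInvolution.mov_mov hcop CoprimeInvolution.inv_top
      have hle : (CoprimeInvolution.mov φ M).map Q₀.subtype ≤
          closure ((fun a => a⁻¹ * ((g : A) * a * (g : A)⁻¹)) '' (Q₁ : Set A)) := by
        rw [CoprimeInvolution.mov, MonoidHom.map_closure, closure_le]
        rintro _ ⟨_, ⟨z, hz, rfl⟩, rfl⟩
        exact subset_closure ⟨_, ⟨z, hz, rfl⟩, rfl⟩
      exact hle ⟨y, hm.symm ▸ hy, rfl⟩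
  rw [hQ₁, Subgroup.map_eq_bot_iff_of_injective _ Q₀.subtype_injective,
    CoprimeInvolution.mov_eq_bot_iff] at hQ₁bot
  intro q hq
  refine Subtype.ext ?_
  have h1 := congrArg Subtype.val (hQ₁bot ⟨q, q, hq, rfl⟩ (mem_top _))
  rw [hφv] at h1
  exact (mul_inv_eq_iff_eq_mul.1 h1).symm

end Cfsg.Agent.SylowCentralAut
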