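import Cfsg.Prelude.Def_KGroupFacts
import Cfsg.Agent.Lib.SylowCentralAut.Main
import Cfsg.Agent.Lib.FTConsumers.Hyp

/-!
# Outer automorphisms of simple groups and automorphisms of Sylow 2-subgroups

* `isSolvable_centralizer`: for simple non-abelian `G` of even order, `C_{Aut G}(S)` is solvable
* `isSolvable_out`: `Out G` is solvable if the group induced on `S` by `N_{Aut G}(S)` is
-/

set_option autoImplicit false
set_option linter.style.haveILetI false

namespace Cfsg.Agent.SylowCentralAut

set_option linter.unusedSectionVars false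

open Subgroup Cfsg
open scoped Pointwise

universe u

variable {G : Type u} [Group G] [Finite G]

/-- `S` as a group of inner automorphisms. -/
abbrev innS (S : Sylow 2 G) : Subgroup (MulAut G) :=
  (S : Subgroup G).map (MulAut.conj : G →* MulAut G)

theorem even_card (S : Sylow 2 G) (hS : (S : Subgroup G) ≠ ⊥) : Even (Nat.card G) := by
  haveI : Fact (Nat.Prime 2) := ⟨Nat.prime_two⟩
  obtain ⟨k, hk⟩ := IsPGroup.iff_card.1 S.2
  have h0 : k ≠ 0 := fun h => hS (Subgroup.card_eq_one.1 (by rw [hk, h, pow_zero]))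
  exact even_iff_two_dvd.2 (((dvd_pow_self 2 h0).trans hk.symm.dvd).trans (card_subgroup_dvd_card _))

variable [IsSimpleGroup G] (hG : ¬ IsMulCommutative G)

include hG

theorem conj_injective : Function.Injective (MulAut.conj : G →* MulAut G) := by
  rw [← MonoidHom.ker_eq_bot_iff]
  refine (inferInstance : (MulAut.conj : G →* MulAut G).ker.Normal).eq_bot_or_eq_top.resolve_right
    fun h => hG ⟨⟨fun a b => ?_⟩⟩
  have h1 : MulAut.conj a b = b := by
    rw [show MulAut.conj a = 1 from MonoidHom.mem_ker.1 (h ▸ mem_top a)]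
    rfl
  exact mul_inv_eq_iff_eq_mul.1 h1

theorem centralizer_inn : centralizer (Inn G : Set (MulAut G)) = ⊥ := by
  rw [eq_bot_iff]
  intro φ hφ
  rw [mem_bot]
  refine MulEquiv.ext fun g => conj_injective hG (MulEquiv.ext fun y => ?_)
  have h := hφ (MulAut.conj g) ⟨g, rfl⟩
  have h' := congrArg (fun ψ : MulAut G => ψ (φ.symm y)) h
  simp only [MulAut.mul_apply, MulAut.conj_apply, map_mul, map_inv, MulEquiv.apply_symm_apply] at h'
  simpa using h'.symm

theorem no_odd_normal (heven : Even (Nat.card G)) {N : Subgroup (MulAut G)} (hN : N ≤ Inn G)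
    (hn : Inn G ≤ normalizer (N : Set (MulAut G))) (hodd : Odd (Nat.card N)) : N = ⊥ := by
  have hnor : (N.comap (MulAut.conj : G →* MulAut G)).Normal := by
    refine ⟨fun a ha g => ?_⟩
    show MulAut.conj (g * a * g⁻¹) ∈ N
    rw [map_mul, map_mul, map_inv]
    exact (mem_normalizer_iff.1 (hn ⟨g, rfl⟩) _).1 ha
  rcases hnor.eq_bot_or_eq_top with h | h
  · rw [eq_bot_iff]
    intro φ hφ
    obtain ⟨g, rfl⟩ := hN hφ
    rw [(mem_bot.1 (h ▸ hφ : g ∈ (⊥ : Subgroup G))), map_one, mem_bot]
  · exfalso
    have h1 : N = Inn G := le_antisymm hN (by rintro _ ⟨g, rfl⟩; exact (h ▸ mem_top g : _))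
    have h2 : Nat.card N = Nat.card G := by
      rw [h1]
      exact (Nat.card_congr (MonoidHom.ofInjective (conj_injective hG)).toEquiv).symm
    exact Nat.not_even_iff_odd.2 hodd (h2 ▸ heven)

theorem innS_sylow (S : Sylow 2 G) :
    IsPGroup 2 (innS S) ∧ innS S ≤ Inn G ∧ ¬ 2 ∣ (innS S).relIndex (Inn G) := by
  haveI : Fact (Nat.Prime 2) := ⟨Nat.prime_two⟩
  refine ⟨S.2.map _, by rintro _ ⟨g, -, rfl⟩; exact ⟨g, rfl⟩, ?_⟩
  rw [innS, show (Inn G : Subgroup (MulAut G)) = (⊤ : Subgroup G).map MulAut.conj from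
    MonoidHom.range_eq_map _, relIndex_map_map_of_injective _ _ (conj_injective hG),
    relIndex_top_right]
  exact S.not_dvd_index

/-- `C_{Aut G}(S)` is solvable. -/
theorem isSolvable_centralizer (hFT : FTConsumers.OddOrder.{u}) (heven : Even (Nat.card G))
    (S : Sylow 2 G) : Group.IsSolvable (centralizer (innS S : Set (MulAut G))) := by
  haveI : Fact (Nat.Prime 2) := ⟨Nat.prime_two⟩
  obtain ⟨h1, h2, h3⟩ := innS_sylow hG S
  obtain ⟨P, N, hN, hcompl⟩ := hasNormalPComplement_centralizer (G := Inn G) inferInstance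
    (centralizer_inn hG) (fun N hN hn hodd => no_odd_normal hG heven hN hn hodd) h1 h2 h3
  haveI := hN
  haveI : Group.IsSolvable N := hFT N (by
    rw [← hcompl.index_eq_card]
    exact Nat.not_even_iff_odd.1 fun h => P.not_dvd_index (even_iff_two_dvd.1 h))
  set π := QuotientGroup.mk' N
  haveI : Group.IsSolvable (_ ⧸ N) := by
    haveI := P.2.isNilpotent
    haveI : Group.IsSolvable (P : Subgroup (centralizer (innS S : Set (MulAut G)))) := inferInstance
    exact Group.isSolvable_of_surjective
      (f := π.comp (P : Subgroup (centralizer (innS S : Set (MulAut G)))).subtype) fun q => by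
      obtain ⟨c, rfl⟩ := QuotientGroup.mk'_surjective N q
      obtain ⟨n, hn, s, hs, rfl⟩ :=
        mem_sup_of_normal_left.1 (hcompl.sup_eq_top.ge (mem_top c))
      refine ⟨⟨s, hs⟩, ?_⟩
      show π s = π (n * s)
      rw [map_mul, show π n = 1 from (QuotientGroup.eq_one_iff n).2 hn, one_mul]
  exact Group.isSolvable_of_ker_le_range N.subtype π
    (by rw [QuotientGroup.ker_mk', range_subtype])

/-- `Out G` is solvable when `N_{Aut G}(S)` acts on `S` as a solvable group. -/
theorem isSolvable_out (hFT : FTConsumers.OddOrder.{u}) (heven : Even (Nat.card G))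
    (S : Sylow 2 G) (hS : Group.IsSolvable (normalizerMonoidHom (innS S)).range) :
    Group.IsSolvable (Out G) := by
  haveI : Fact (Nat.Prime 2) := ⟨Nat.prime_two⟩
  haveI := isSolvable_centralizer hG hFT heven S
  set ν := normalizerMonoidHom (innS S) with hν
  haveI : Group.IsSolvable ν.ker := by
    rw [hν, normalizerMonoidHom_ker]
    let e : (centralizer (innS S : Set (MulAut G))).subgroupOf
        (normalizer (innS S : Set (MulAut G))) ≃* centralizer (innS S : Set (MulAut G)) :=
      subgroupOfEquivOfLe (centralizer_le_normalizer _)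
    exact Group.isSolvable_of_isSolvable_injective (f := e.toMonoidHom) e.injective
  haveI : Group.IsSolvable (normalizer (innS S : Set (MulAut G))) :=
    Group.isSolvable_of_ker_le_range ν.ker.subtype ν.rangeRestrict
      (by rw [MonoidHom.ker_rangeRestrict, range_subtype])
  refine Group.isSolvable_of_surjective
    (f := (QuotientGroup.mk' (Inn G)).comp (normalizer (innS S : Set (MulAut G))).subtype) fun q => ?_
  obtain ⟨a, rfl⟩ := QuotientGroup.mk'_surjective (Inn G) q
  obtain ⟨h1, h2, h3⟩ := innS_sylow hG S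
  set P : Sylow 2 (Inn G) := (h1.comap_subtype : IsPGroup 2 ((innS S).subgroupOf (Inn G))).toSylow h3
  have hP : (P : Subgroup (Inn G)).map (Inn G).subtype = innS S := map_subgroupOf_eq_of_le h2
  have hmem : a ∈ normalizer (((P : Subgroup (Inn G)).map (Inn G).subtype : Subgroup _) : Set (MulAut G))
      ⊔ Inn G := (Sylow.normalizer_sup_eq_top P).ge (mem_top a)
  rw [hP] at hmem
  obtain ⟨n, hn, i, hi, rfl⟩ := mem_sup_of_normal_right.1 hmem
  refine ⟨⟨n, hn⟩, ?_⟩
  show QuotientGroup.mk' (Inn G) n = QuotientGroup.mk' (Inn G) (n * i)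
  rw [map_mul, show QuotientGroup.mk' (Inn G) i = 1 from (QuotientGroup.eq_one_iff i).2 hi, mul_one]

/-- `Out G` is solvable when `Aut S` is. -/
theorem isSolvable_out_of_aut (hFT : FTConsumers.OddOrder.{u}) (heven : Even (Nat.card G))
    (S : Sylow 2 G) (hS : Group.IsSolvable (MulAut ↥S)) : Group.IsSolvable (Out G) := by
  refine isSolvable_out hG hFT heven S ?_
  have e : (S : Subgroup G) ≃* innS S := equivMapOfInjective _ _ (conj_injective hG)
  haveI : Group.IsSolvable (MulAut (S : Subgroup G)) := hS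
  haveI : Group.IsSolvable (MulAut (innS S)) :=
    Group.isSolvable_of_surjective (f := (MulAut.congr e).toMonoidHom) (MulAut.congr e).surjective
  infer_instance

end Cfsg.Agent.SylowCentralAut
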