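import Cfsg.Agent.Lib.Transfer.ConjFamily
import Cfsg.Agent.Lib.Coprime.Basic
import Cfsg.Agent.Lib.PCore.Basic
import Cfsg.Agent.Lib.AbelianCent.Fpf
import Cfsg.Agent.Lib.Solvable.System
import Mathlib.GroupTheory.Transfer

/-!
# Automorphisms centralising a Sylow 2-subgroup: control of fusion

`H = G Q` with `G` normal, `T` a Sylow 2-subgroup containing the 2-group `Q`, which centralises
`T ∩ G`; `α` is an automorphism fixing `T ∩ G` elementwise and leaving `G` and `Q` invariant, with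
`Q` generated by the elements `a⁻¹ α(a)`. Then (`Setup.fusion`) a conjugate in `T` of an element of `Q`
is already conjugate to it under `Q`.
-/

set_option autoImplicit false
set_option linter.style.haveILetI false

namespace Cfsg.Agent.SylowCentralAut

open Subgroup Cfsg
open scoped Pointwise

universe u

variable {H : Type u} [Group H] [Finite H]

/-- The configuration. -/
structure Setup (T : Sylow 2 H) (G Q : Subgroup H) (α : MulAut H) : Prop where
  normal : G.Normal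
  gen : G ⊔ Q = ⊤
  le : Q ≤ (T : Subgroup H)
  comm : ∀ q ∈ Q, ∀ s ∈ (T : Subgroup H), s ∈ G → q * s = s * q
  fix : ∀ s ∈ (T : Subgroup H), s ∈ G → α s = s
  mapG : ∀ g ∈ G, α g ∈ G
  mapQ : ∀ q ∈ Q, α q ∈ Q
  full : Q ≤ closure ((fun a => a⁻¹ * α a) '' (Q : Set H))

section odd

omit [Finite H] in
theorem eq_one_of_pow_odd {x : H} {n a : ℕ} (hn : Odd n) (h : x ^ n = 1) (ha : x ^ 2 ^ a = 1) :
    x = 1 := by
  have hcop : n.Coprime (2 ^ a) := ((Nat.coprime_two_right).2 hn).pow_right a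
  rw [← pow_one x, ← Nat.coprime_iff_gcd_eq_one.1 hcop]
  exact pow_gcd_eq_one.2 ⟨h, ha⟩

omit [Finite H] in
theorem mem_of_pow_odd_mem {D : Subgroup H} {x : H} {n a : ℕ} (hn : Odd n) (h : x ^ n ∈ D)
    (ha : x ^ 2 ^ a = 1) : x ∈ D := by
  have hcop : (orderOf x).Coprime n :=
    Nat.Coprime.coprime_dvd_left (orderOf_dvd_of_pow_eq_one ha)
      (((Nat.coprime_two_right).2 hn).pow_right a).symm
  obtain ⟨m, hm⟩ := exists_pow_eq_self_of_coprime hcop.symm
  rw [← hm]
  exact pow_mem h m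

theorem odd_card_of_coprime_two {n : ℕ} (h : n.Coprime 2) : Odd n := Nat.coprime_two_right.1 h

end odd

variable {T : Sylow 2 H} {G Q : Subgroup H} {α : MulAut H}

set_option linter.unusedSectionVars false

theorem exists_pow_two_eq_one {t : H} (ht : t ∈ (T : Subgroup H)) : ∃ a : ℕ, t ^ 2 ^ a = 1 := by
  obtain ⟨a, ha⟩ := T.2 ⟨t, ht⟩
  exact ⟨a, congrArg Subtype.val ha⟩

/-- An element of `N(D)` of 2-power order centralising `D ∩ G` and acting trivially on `D G / G`
lies in `D`, for `D` in Goldschmidt's family. -/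
theorem mem_of_stabilizes (hG : G.Normal) {D : Subgroup H} (hD : Transfer.IsGoldschmidt T D)
    {k : H} (hk : k ∈ normalizer (D : Set H)) (hk2 : ∃ a : ℕ, k ^ 2 ^ a = 1)
    (hc0 : k ∈ centralizer ((D ⊓ G : Subgroup H) : Set H))
    (hc1 : ∀ d ∈ D, k * d * k⁻¹ * d⁻¹ ∈ G) : k ∈ D := by
  haveI := hG
  haveI : Fact (Nat.Prime 2) := ⟨Nat.prime_two⟩
  obtain ⟨hDT, hCX, ⟨-, -, hOD, -, hX⟩, -⟩ := hD
  set N := normalizer (D : Set H) with hN
  set O := pPrimeCore 2 N with hO
  set D' := D.subgroupOf N with hD'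
  haveI : D'.Normal := normal_in_normalizer
  set E' := D' ⊓ G.subgroupOf N with hE'
  haveI : (G.subgroupOf N).Normal := hG.subgroupOf N
  haveI : E'.Normal := Subgroup.normal_inf_normal _ _
  set f := ((QuotientGroup.mk' G).comp N.subtype).rangeRestrict with hf
  have hfs : Function.Surjective f := MonoidHom.rangeRestrict_surjective _
  haveI : (D'.map f).Normal := Subgroup.Normal.map inferInstance f hfs
  haveI : ((centralizer ((D'.map f : Subgroup _) : Set _)).comap f).Normal :=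
    Subgroup.Normal.comap inferInstance f
  set K := centralizer (E' : Set N) ⊓ (centralizer ((D'.map f : Subgroup _) : Set _)).comap f with hK
  haveI : K.Normal := Subgroup.normal_inf_normal _ _
  have hodd_O : ∀ z : N, z ∈ O → Odd (orderOf z) := fun z hz => by
    obtain ⟨i, hi⟩ := orderOf_dvd_natCard (⟨z, hz⟩ : O)
    have h1 := odd_card_of_coprime_two (PCore.coprime_card_pPrimeCore (p := 2) (G := N))
    rw [hi, Subgroup.orderOf_mk] at h1
    exact (Nat.odd_mul.1 h1).1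
  -- odd elements of `K` lie in the odd core
  have hKodd : ∀ z : N, z ∈ K → Odd (orderOf z) → z ∈ O := by
    rintro z ⟨hz0, hz1⟩ hodd
    have hzC : (z : H) ∈ centralizer (D : Set H) := by
      rw [mem_centralizer_iff]
      intro d hd
      have hdN : d ∈ N := le_normalizer hd
      set e := (z : H) * d * (z : H)⁻¹ * d⁻¹ with he
      have heG : e ∈ G := by
        have h1 := hz1 (f ⟨d, hdN⟩) ⟨⟨d, hdN⟩, hd, rfl⟩
        rw [← map_mul, ← map_mul] at h1
        have h2 : QuotientGroup.mk' G (d * (z : H)) = QuotientGroup.mk' G ((z : H) * d) :=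
          congrArg Subtype.val h1
        rw [← QuotientGroup.eq_one_iff, ← QuotientGroup.mk'_apply, he,
          show (z : H) * d * (z : H)⁻¹ * d⁻¹ = (z : H) * d * (d * (z : H))⁻¹ by group,
          map_mul, map_inv, h2, mul_inv_cancel]
      have heD : e ∈ D := mul_mem ((mem_normalizer_iff.1 z.2 d).1 hd) (inv_mem hd)
      have hze : Commute (z : H) e :=
        (congrArg Subtype.val (hz0 ⟨e, le_normalizer heD⟩ ⟨heD, heG⟩)).symm
      have hpow : ∀ j : ℕ, (z : H) ^ j * d * ((z : H) ^ j)⁻¹ = e ^ j * d := by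
        intro j
        induction j with
        | zero => simp
        | succ j ih =>
          calc (z : H) ^ (j + 1) * d * ((z : H) ^ (j + 1))⁻¹
              = (z : H) * ((z : H) ^ j * d * ((z : H) ^ j)⁻¹) * (z : H)⁻¹ := by
                rw [pow_succ']; group
            _ = ((z : H) * e ^ j) * d * (z : H)⁻¹ := by rw [ih]; group
            _ = e ^ j * ((z : H) * d * (z : H)⁻¹ * d⁻¹) * d := by rw [(hze.pow_right j).eq]; group
            _ = e ^ (j + 1) * d := by rw [← he, pow_succ]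
      have h1 := hpow (orderOf (z : H))
      rw [pow_orderOf_eq_one, inv_one, mul_one, one_mul, eq_comm, mul_eq_right] at h1
      rw [Subgroup.orderOf_coe] at h1
      have he1 : e = 1 := by
        obtain ⟨a, ha⟩ := exists_pow_two_eq_one (hDT heD)
        exact eq_one_of_pow_odd hodd h1 ha
      rw [he, mul_inv_eq_one, mul_inv_eq_iff_eq_mul] at he1
      exact he1.symm
    obtain ⟨x, hx, hxz⟩ := hCX hzC
    rw [Subtype.val_injective hxz] at hx
    have hzX : (z : H) ∈ O.map N.subtype ⊔ D := by rw [hX]; exact ⟨z, hx, rfl⟩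
    obtain ⟨o, ho, d, hd, hodz⟩ := (Coprime.mem_sup_iff_of_le_normalizer
      (show O.map N.subtype ≤ normalizer (D : Set H) from map_subtype_le _)).1 hzX
    obtain ⟨o, ho, rfl⟩ := ho
    have hcomm : Commute (o : H) d := hOD _ ⟨o, ho, rfl⟩ d hd
    have hd1 : d = 1 := by
      obtain ⟨a, ha⟩ := exists_pow_two_eq_one (hDT hd)
      refine eq_one_of_pow_odd ((hodd_O o ho).mul hodd) ?_ ha
      have e1 : d = (o : H)⁻¹ * (z : H) := by rw [← hodz]; simp
      have hc : Commute (o : H)⁻¹ (z : H) := by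
        rw [← hodz]
        exact (((Commute.refl (o : H)).mul_right hcomm)).inv_left
      have hoz : ((o : H))⁻¹ ^ (orderOf o * orderOf z) = 1 := by
        rw [inv_pow, ← Subgroup.orderOf_coe o, pow_mul, pow_orderOf_eq_one, one_pow, inv_one]
      have hzz : (z : H) ^ (orderOf o * orderOf z) = 1 := by
        rw [← Subgroup.orderOf_coe z, mul_comm, pow_mul, pow_orderOf_eq_one, one_pow]
      rw [e1, hc.mul_pow, hoz, hzz, one_mul]
    rw [hd1, mul_one] at hodz
    rwa [← show o = z from Subtype.ext hodz]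
  -- the image of `K` modulo the odd core is a 2-group
  have hKp : IsPGroup 2 (K.map (QuotientGroup.mk' O)) := by
    rintro ⟨_, z, hz, rfl⟩
    obtain ⟨a, m, hm, hzo⟩ := Nat.exists_eq_two_pow_mul_odd (orderOf_pos z).ne'
    refine ⟨a, Subtype.ext ?_⟩
    show QuotientGroup.mk' O z ^ 2 ^ a = 1
    rw [← map_pow, QuotientGroup.mk'_apply, QuotientGroup.eq_one_iff]
    refine hKodd _ (pow_mem hz _) ?_
    rw [orderOf_pow' _ (pow_ne_zero a two_ne_zero), hzo, Nat.gcd_mul_right_left,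
      Nat.mul_div_cancel_left _ (pow_pos two_pos a)]
    exact hm
  haveI : (K.map (QuotientGroup.mk' O)).Normal :=
    Subgroup.Normal.map inferInstance _ (QuotientGroup.mk'_surjective O)
  set k' : N := ⟨k, hk⟩
  have hkK : k' ∈ K := by
    refine ⟨?_, ?_⟩
    · rintro ⟨e, heN⟩ ⟨he1, he2⟩
      exact Subtype.ext (hc0 e ⟨he1, he2⟩)
    · rintro _ ⟨⟨d, hdN⟩, hd, rfl⟩
      rw [← map_mul, ← map_mul]
      refine Subtype.ext ?_
      show QuotientGroup.mk' G (d * k) = QuotientGroup.mk' G (k * d)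
      have h1 := (QuotientGroup.eq_one_iff (N := G) _).2 (hc1 d hd)
      rw [← QuotientGroup.mk'_apply, map_mul, map_mul, map_mul, map_inv, map_inv,
        mul_inv_eq_one, mul_inv_eq_iff_eq_mul] at h1
      rw [map_mul, map_mul, h1]
  have hkX : (k' : N) ∈ pPrimePCore 2 N := PCore.le_pCore hKp ⟨k', hkK, rfl⟩
  have hkX' : k ∈ O.map N.subtype ⊔ D := by rw [hX]; exact ⟨k', hkX, rfl⟩
  obtain ⟨o, ho, d, hd, hodk⟩ := (Coprime.mem_sup_iff_of_le_normalizer
      (show O.map N.subtype ≤ normalizer (D : Set H) from map_subtype_le _)).1 hkX'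
  obtain ⟨o, ho, rfl⟩ := ho
  obtain ⟨a, ha⟩ := hk2
  refine mem_of_pow_odd_mem (hodd_O o ho) ?_ ha
  rw [← hodk, Commute.mul_pow (hOD _ ⟨o, ho, rfl⟩ d hd), ← Subgroup.orderOf_coe o]
  show (o : H) ^ orderOf (o : H) * d ^ orderOf (o : H) ∈ D
  rw [pow_orderOf_eq_one, one_mul]
  exact pow_mem hd _

/-- For `D` in Goldschmidt's family the odd-order elements of `C_G(D ∩ G)` form a subgroup `W`, with
`C_G(D ∩ G) = Z(D ∩ G) × W`. -/
theorem exists_odd_part (hG : G.Normal) {D : Subgroup H} (hD : Transfer.IsGoldschmidt T D) :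
    ∃ W : Subgroup H, Odd (Nat.card W) ∧
      (∀ w, w ∈ W ↔ (w ∈ G ∧ w ∈ centralizer ((D ⊓ G : Subgroup H) : Set H)) ∧ Odd (orderOf w)) ∧
      ∀ m ∈ G, m ∈ centralizer ((D ⊓ G : Subgroup H) : Set H) →
        ∃ z ∈ D ⊓ G, z ∈ centralizer ((D ⊓ G : Subgroup H) : Set H) ∧ ∃ w ∈ W, z * w = m := by
  haveI := hG
  haveI : Fact (Nat.Prime 2) := ⟨Nat.prime_two⟩
  set E := D ⊓ G with hE
  set M := G ⊓ centralizer (E : Set H) with hM
  set Z := E ⊓ centralizer (E : Set H) with hZ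
  have hZM : Z ≤ M := fun z hz => ⟨hz.1.2, hz.2⟩
  have hEn : D ≤ normalizer (E : Set H) := fun d hd => by
    rw [mem_normalizer_iff]
    refine fun e => ⟨fun he => ⟨D.mul_mem (D.mul_mem hd he.1) (D.inv_mem hd), hG.conj_mem e he.2 d⟩,
      fun he => ⟨?_, ?_⟩⟩
    · have := D.mul_mem (D.mul_mem (D.inv_mem hd) he.1) hd
      simpa [mul_assoc] using this
    · have := hG.conj_mem _ he.2 d⁻¹
      simpa [mul_assoc] using this
  have hMn : D ≤ normalizer (M : Set H) :=
    (le_inf (le_top.trans (normalizer_eq_top (H := G)).ge)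
      (AbelianCent.le_normalizer_centralizer' hEn)).trans inf_normalizer_le_normalizer_inf
  -- the 2-elements
  set L := M ⊔ D with hL
  obtain ⟨P, hP⟩ := ((T.2.to_le hD.1).comap_subtype : IsPGroup 2 (D.subgroupOf L)).exists_le_sylow
  have hPD : ∀ z : L, z ∈ (P : Subgroup L) → (z : H) ∈ M → (z : H) ∈ D := by
    by_contra hcon
    push Not at hcon
    obtain ⟨z₀, hz₀P, hz₀M, hz₀D⟩ := hcon
    have hlt : D.subgroupOf L < (P : Subgroup L) := lt_of_le_of_ne hP fun h => hz₀D (h.ge hz₀P :)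
    have hPn : Group.IsNilpotent (P : Subgroup L) := P.2.isNilpotent
    obtain ⟨x, hxN, hxD⟩ := SetLike.exists_of_lt (Group.normalizerCondition_of_isNilpotent
      ((D.subgroupOf L).subgroupOf (P : Subgroup L)) (lt_top_iff_ne_top.2 fun h =>
        not_le_of_gt hlt (subgroupOf_eq_top.1 h)))
    have hxN' : ((x : L) : H) ∈ normalizer (D : Set H) := by
      refine mem_normalizer_iff.2 fun y => ⟨fun hy => ?_, fun hy => ?_⟩
      · exact (mem_normalizer_iff.1 hxN ⟨⟨y, mem_sup_right hy⟩, hP hy⟩).1 hy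
      · have h1 := (mem_normalizer_iff''.1 hxN ⟨⟨_, mem_sup_right hy⟩, hP hy⟩).1 hy
        have e : y = ((x : L) : H)⁻¹ * (((x : L) : H) * y * ((x : L) : H)⁻¹) * ((x : L) : H) := by
          group
        rw [e]
        exact h1
    have hxL : ((x : L) : H) ∈ D ⊔ M := sup_comm M D ▸ (x : L).2
    obtain ⟨d, hd, m, hm, hdm⟩ := (Coprime.mem_sup_iff_of_le_normalizer hMn).1 hxL
    have hmN : m ∈ normalizer (D : Set H) := by
      have e : m = d⁻¹ * ((x : L) : H) := by rw [← hdm]; simp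
      rw [e]
      exact mul_mem (inv_mem (le_normalizer hd)) hxN'
    have hmP : (⟨m, mem_sup_left hm⟩ : L) ∈ (P : Subgroup L) := by
      have e : (⟨m, mem_sup_left hm⟩ : L) = (⟨d, mem_sup_right hd⟩ : L)⁻¹ * (x : L) :=
        Subtype.ext (show m = d⁻¹ * ((x : L) : H) by rw [← hdm]; simp)
      rw [e]
      exact mul_mem (inv_mem (hP hd)) x.2
    have hm2 : ∃ a : ℕ, m ^ 2 ^ a = 1 := by
      obtain ⟨a, ha⟩ := P.2 ⟨_, hmP⟩
      exact ⟨a, congrArg (fun w : (P : Subgroup L) => ((w : L) : H)) ha⟩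
    have hmD : m ∈ D := by
      refine mem_of_stabilizes hG hD hmN hm2 hm.2 fun d' hd' => ?_
      have e : m * d' * m⁻¹ * d'⁻¹ = m * (d' * m⁻¹ * d'⁻¹) := by group
      rw [e]
      exact mul_mem hm.1 (hG.conj_mem _ (inv_mem hm.1) d')
    refine hxD ?_
    show ((x : L) : H) ∈ D
    rw [← hdm]
    exact mul_mem hd hmD
  have hindex : ¬ 2 ∣ (Z.subgroupOf M).index := by
    haveI : (M.subgroupOf L).Normal :=
      normal_subgroupOf_of_le_normalizer (sup_le le_normalizer hMn)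
    have h1 := P.not_dvd_index
    set R := (P : Subgroup L) ⊓ M.subgroupOf L with hR
    have hRZ : R.map L.subtype ≤ Z := by
      rintro _ ⟨z, ⟨hzP, hzM⟩, rfl⟩
      exact ⟨⟨hPD z hzP hzM, hzM.1⟩, hzM.2⟩
    have h2 : ¬ 2 ∣ R.relIndex (M.subgroupOf L) := by
      rw [hR, inf_relIndex_right]
      exact fun h => h1 (h.trans (Solvable.relIndex_dvd_index_of_normal_right (P : Subgroup L) _))
    have h3 : R.relIndex (M.subgroupOf L) = (R.map L.subtype).relIndex M := by
      conv_rhs => rw [← map_subgroupOf_eq_of_le (show M ≤ L from le_sup_left)]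
      rw [relIndex_map_map_of_injective _ _ L.subtype_injective]
    rw [h3] at h2
    exact fun h => h2 (h.trans (relIndex_dvd_of_le_left M hRZ))
  set Z' := Z.subgroupOf M with hZ'
  have hZc : ∀ z : M, z ∈ Z' → ∀ m : M, m * z = z * m := fun z hz m =>
    Subtype.ext (m.2.2 _ hz.1).symm
  set S₀ : Sylow 2 M := ((T.2.to_le ((inf_le_left : Z ≤ E).trans
    ((inf_le_left : E ≤ D).trans hD.1))).comap_subtype : IsPGroup 2 Z').toSylow hindex
  have hS₀ : (S₀ : Subgroup M) = Z' := rfl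
  haveI : FiniteIndex (S₀ : Subgroup M) := inferInstance
  have hnc : normalizer ((S₀ : Subgroup M) : Set M) ≤ centralizer ((S₀ : Subgroup M) : Set M) :=
    fun m _ z hz => (hZc z (hS₀ ▸ hz) m).symm
  have hcompl := MonoidHom.ker_transferSylow_isComplement' S₀ hnc
  set K := (MonoidHom.transferSylow S₀ hnc).ker with hK
  have hKodd : Odd (Nat.card K) := by
    rw [← hcompl.index_eq_card, hS₀]
    exact Nat.not_even_iff_odd.1 fun h => hindex (even_iff_two_dvd.1 h)
  refine ⟨K.map M.subtype, by rwa [card_map_of_injective M.subtype_injective], fun w => ?_, ?_⟩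
  · constructor
    · rintro ⟨w, hw, rfl⟩
      refine ⟨w.2, ?_⟩
      obtain ⟨i, hi⟩ := orderOf_dvd_natCard (⟨w, hw⟩ : K)
      rw [hi, Subgroup.orderOf_mk] at hKodd
      show Odd (orderOf (w : H))
      rw [Subgroup.orderOf_coe]
      exact (Nat.odd_mul.1 hKodd).1
    · rintro ⟨hwM, hodd⟩
      refine ⟨⟨w, hwM⟩, ?_, rfl⟩
      show MonoidHom.transferSylow S₀ hnc ⟨w, hwM⟩ = 1
      obtain ⟨a, ha⟩ := S₀.2 (MonoidHom.transferSylow S₀ hnc ⟨w, hwM⟩)
      refine eq_one_of_pow_odd (H := (S₀ : Subgroup M)) hodd ?_ ha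
      rw [← map_pow, show (⟨w, hwM⟩ : M) ^ orderOf w = 1 from Subtype.ext (pow_orderOf_eq_one w),
        map_one]
  · intro m hmG hmC
    have h : (⟨m, hmG, hmC⟩ : M) ∈ Z' ⊔ K := by
      rw [← hS₀, sup_comm, hcompl.sup_eq_top]
      exact mem_top _
    obtain ⟨z, hz, w, hw, hzw⟩ := mem_sup_of_normal_right.1 h
    exact ⟨z, hz.1, hz.2, w, ⟨w, hw, rfl⟩, congrArg Subtype.val hzw⟩

theorem Setup.eq_mul (h : Setup T G Q α) {t : H} (ht : t ∈ (T : Subgroup H)) :
    ∃ s ∈ (T : Subgroup H), s ∈ G ∧ ∃ q ∈ Q, s * q = t := by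
  haveI := h.normal
  obtain ⟨g, hg, q, hq, rfl⟩ := mem_sup_of_normal_left.1 (h.gen.ge (mem_top t))
  refine ⟨g, ?_, hg, q, hq, rfl⟩
  have := mul_mem ht (inv_mem (h.le hq))
  rwa [mul_inv_cancel_right] at this

/-- One step of the fusion. -/
theorem Setup.step (h : Setup T G Q α) {D : Subgroup H} (hD : Transfer.IsGoldschmidt T D)
    {a : H} (haQ : a ∈ Q) (haD : a ∈ D) {m : H} (hm : m ∈ normalizer (D : Set H))
    (hmG : m ∈ G) : m * a * m⁻¹ = a := by
  haveI := h.normal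
  haveI : Fact (Nat.Prime 2) := ⟨Nat.prime_two⟩
  obtain ⟨W, hWodd, hW, hMdec⟩ := exists_odd_part h.normal hD
  set E := D ⊓ G with hE
  set R := (T : Subgroup H) ⊓ centralizer (E : Set H) with hR
  have hDT := hD.1
  have hEfix : ∀ e ∈ E, α e = e := fun e he => h.fix e (hDT he.1) he.2
  have hQR : Q ≤ R := fun q hq => ⟨h.le hq, fun e he => (h.comm q hq e (hDT he.1) he.2).symm⟩
  have hR2 : IsPGroup 2 R := T.2.to_le inf_le_left
  have hRW : ∀ w ∈ W, w ∈ R → w = 1 := fun w hw hwR => by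
    obtain ⟨b, hb⟩ := exists_pow_two_eq_one (show w ∈ (T : Subgroup H) from hwR.1)
    exact eq_one_of_pow_odd ((hW w).1 hw).2 (pow_orderOf_eq_one w) hb
  have hWn : R ≤ normalizer (W : Set H) := by
    have key : ∀ r ∈ centralizer (E : Set H), ∀ w ∈ W, r * w * r⁻¹ ∈ W := fun r hr w hw => by
      obtain ⟨⟨hwG, hwC⟩, hwo⟩ := (hW w).1 hw
      refine (hW _).2 ⟨⟨h.normal.conj_mem w hwG r, mul_mem (mul_mem hr hwC) (inv_mem hr)⟩, ?_⟩
      rwa [show r * w * r⁻¹ = MulAut.conj r w from rfl, MulEquiv.orderOf_eq]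
    intro r hr
    rw [mem_normalizer_iff]
    refine fun w => ⟨key r hr.2 w, fun hw => ?_⟩
    have := key r⁻¹ (inv_mem hr.2) _ hw
    simpa [mul_assoc] using this
  -- `m` normalises `E`
  have hmE : ∀ e ∈ E, m * e * m⁻¹ ∈ E ∧ m⁻¹ * e * m ∈ E := fun e he =>
    ⟨⟨(mem_normalizer_iff.1 hm e).1 he.1, h.normal.conj_mem e he.2 m⟩,
      ⟨(mem_normalizer_iff''.1 hm e).1 he.1, h.normal.conj_mem' e he.2 m⟩⟩
  have hmC : ∀ c ∈ centralizer (E : Set H), m * c * m⁻¹ ∈ centralizer (E : Set H) := by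
    intro c hc e he
    have h1 : m⁻¹ * e * m * c = c * (m⁻¹ * e * m) := hc _ (hmE e he).2
    calc e * (m * c * m⁻¹) = m * (m⁻¹ * e * m * c) * m⁻¹ := by group
      _ = m * c * m⁻¹ * e := by rw [h1]; group
  -- `C(E) = R W`
  have hCRW : centralizer (E : Set H) ≤ R ⊔ W := by
    intro c hc
    obtain ⟨g, hg, q, hq, rfl⟩ := mem_sup_of_normal_left.1 (h.gen.ge (mem_top c))
    have hgC : g ∈ centralizer (E : Set H) := by
      have := mul_mem hc (inv_mem (hQR hq).2)
      rwa [mul_inv_cancel_right] at this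
    obtain ⟨z, hz, hzC, w, hw, rfl⟩ := hMdec g hg hgC
    exact mul_mem (mul_mem (mem_sup_left ⟨hDT hz.1, hzC⟩) (mem_sup_right hw))
      (mem_sup_left (hQR hq))
  have hcop : (Nat.card R).Coprime (Nat.card W) := by
    obtain ⟨k, hk⟩ := IsPGroup.iff_card.1 hR2
    rw [hk]
    exact (Nat.coprime_two_left.2 hWodd).pow_left k
  haveI := hR2.isNilpotent
  obtain ⟨w, hw, hwR⟩ := Coprime.exists_le_conj_of_le_sup hWn
    (show MulAut.conj m • R ≤ R ⊔ W by
      rintro _ ⟨r, hr, rfl⟩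
      exact hCRW (hmC r hr.2))
    hcop (by rw [Coprime.card_conj_smul]; exact hcop) (Or.inl inferInstance)
  obtain ⟨⟨hwG, hwC⟩, -⟩ := (hW w).1 hw
  set n := w⁻¹ * m with hn
  have hnR : ∀ r ∈ R, n * r * n⁻¹ ∈ R := by
    intro r hr
    obtain ⟨r', hr', e⟩ := hwR ⟨r, hr, rfl⟩
    have e' : w * r' * w⁻¹ = m * r * m⁻¹ := e
    have : n * r * n⁻¹ = r' := by
      calc n * r * n⁻¹ = w⁻¹ * (m * r * m⁻¹) * w := by rw [hn]; group
        _ = r' := by rw [← e']; group
    exact this ▸ hr'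
  have hnE : ∀ e ∈ E, n * e * n⁻¹ = m * e * m⁻¹ := fun e he => by
    calc n * e * n⁻¹ = w⁻¹ * (m * e * m⁻¹ * w) := by rw [hn]; group
      _ = m * e * m⁻¹ := by rw [hwC _ (hmE e he).1]; group
  set n' := α n with hn'
  -- `α` preserves `R`
  have hαR : ∀ r ∈ R, α r ∈ R := by
    intro r hr
    obtain ⟨s, hsT, hsG, q, hq, rfl⟩ := h.eq_mul hr.1
    rw [map_mul, h.fix s hsT hsG]
    have hs : s ∈ R := by
      have := mul_mem hr (inv_mem (hQR hq))
      rwa [mul_inv_cancel_right] at this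
    exact mul_mem hs (hQR (h.mapQ q hq))
  have hRmap : R.map α.toMonoidHom = R :=
    eq_of_le_of_card_ge (by rintro _ ⟨r, hr, rfl⟩; exact hαR r hr)
      (card_map_of_injective α.injective).ge
  have hn'R : ∀ r ∈ R, n' * r * n'⁻¹ ∈ R := by
    intro r hr
    obtain ⟨r', hr', rfl⟩ := hRmap.ge hr
    show α n * α r' * (α n)⁻¹ ∈ R
    rw [← map_mul, ← map_inv, ← map_mul]
    exact hαR _ (hnR r' hr')
  have hnG : n ∈ G := mul_mem (inv_mem hwG) hmG
  set k := n⁻¹ * n' with hk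
  have hkG : k ∈ G := mul_mem (inv_mem hnG) (h.mapG n hnG)
  have hkC : k ∈ centralizer (E : Set H) := by
    intro e he
    have h2 : n' * e * n'⁻¹ = n * e * n⁻¹ := by
      conv_lhs => rw [← hEfix e he]
      rw [hn', ← map_mul, ← map_inv, ← map_mul, hEfix]
      rw [hnE e he]
      exact (hmE e he).1
    calc e * k = n⁻¹ * (n * e * n⁻¹) * n' := by rw [hk]; group
      _ = k * e := by rw [← h2, hk]; group
  -- `k` centralises `R`
  have hkR : ∀ r ∈ R, k * r * k⁻¹ ∈ R := by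
    intro r hr
    have h1 := hn'R r hr
    have hmap : R.map (MulAut.conj n).toMonoidHom = R :=
      eq_of_le_of_card_ge (by rintro _ ⟨r, hr, rfl⟩; exact hnR r hr)
        (card_map_of_injective (MulAut.conj n).injective).ge
    obtain ⟨r', hr', e⟩ := hmap.ge h1
    have e' : n * r' * n⁻¹ = n' * r * n'⁻¹ := e
    have : k * r * k⁻¹ = r' := by
      calc k * r * k⁻¹ = n⁻¹ * (n' * r * n'⁻¹) * n := by rw [hk]; group
        _ = r' := by rw [← e']; group
    exact this ▸ hr'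
  have hkcent : ∀ r ∈ R, k * r * k⁻¹ = r := by
    intro r hr
    obtain ⟨z, hz, hzC, v, hv, hzv⟩ := hMdec k hkG hkC
    have hzr : r * z = z * r := (hr.2 z hz).symm
    have e : k * r * k⁻¹ = z * (v * r * v⁻¹) * z⁻¹ := by rw [← hzv]; group
    have h1 : v * r * v⁻¹ ∈ R := by
      have h2 := mul_mem (mul_mem (inv_mem (show z ∈ R from ⟨hDT hz.1, hzC⟩)) (hkR r hr))
        (show z ∈ R from ⟨hDT hz.1, hzC⟩)
      rw [e] at h2
      convert h2 using 1
      group
    have h2 : v * r * v⁻¹ * r⁻¹ ∈ W := by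
      have := mul_mem hv ((mem_normalizer_iff.1 (hWn hr) v⁻¹).1 (inv_mem hv))
      convert this using 1
      group
    have h3 : v * r * v⁻¹ = r := mul_inv_eq_one.1 (hRW _ h2 (mul_mem h1 (inv_mem hr)))
    rw [e, h3, ← hzr]
    group
  -- so `n` commutes with `α` on `Q`, hence centralises it
  have hδ : ∀ b ∈ Q, n * b * n⁻¹ * b⁻¹ ∈ (T : Subgroup H) ∧ n * b * n⁻¹ * b⁻¹ ∈ G := by
    intro b hb
    refine ⟨mul_mem (hnR b (hQR hb)).1 (inv_mem (h.le hb)), ?_⟩
    have e : n * b * n⁻¹ * b⁻¹ = n * (b * n⁻¹ * b⁻¹) := by group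
    rw [e]
    exact mul_mem hnG (h.normal.conj_mem _ (inv_mem hnG) b)
  have hfixn : Q ≤ (MulAut.conj n).toMonoidHom.eqLocus (MonoidHom.id H) := by
    refine h.full.trans ?_
    rw [closure_le]
    rintro _ ⟨b, hb, rfl⟩
    show n * (b⁻¹ * α b) * n⁻¹ = b⁻¹ * α b
    set δ := n * b * n⁻¹ * b⁻¹ with hδdef
    obtain ⟨hδT, hδG⟩ := hδ b hb
    have h1 : n * α b * n⁻¹ = δ * α b := by
      have hαb := hQR (h.mapQ b hb)
      calc n * α b * n⁻¹ = n * (k * α b * k⁻¹) * n⁻¹ := by rw [hkcent _ hαb]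
        _ = n' * α b * n'⁻¹ := by rw [hk]; group
        _ = α (δ * b) := by
          rw [hn', ← map_mul, ← map_inv, ← map_mul]
          congr 1
          rw [hδdef]; group
        _ = δ * α b := by rw [map_mul, h.fix δ hδT hδG]
    calc n * (b⁻¹ * α b) * n⁻¹ = (n * b * n⁻¹)⁻¹ * (n * α b * n⁻¹) := by group
      _ = (δ * b)⁻¹ * (δ * α b) := by rw [h1, hδdef]; group
      _ = b⁻¹ * α b := by group
  have hna : n * a * n⁻¹ = a := hfixn haQ
  have hma : m * a * m⁻¹ = w * a * w⁻¹ := by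
    calc m * a * m⁻¹ = w * (n * a * n⁻¹) * w⁻¹ := by rw [hn]; group
      _ = w * a * w⁻¹ := by rw [hna]
  have haR := hQR haQ
  have h1 : m * a * m⁻¹ ∈ R := ⟨hDT ((mem_normalizer_iff.1 hm a).1 haD), hmC a haR.2⟩
  rw [hma] at h1 ⊢
  have h2 : w * a * w⁻¹ * a⁻¹ ∈ W := by
    have := mul_mem hw ((mem_normalizer_iff.1 (hWn haR) w⁻¹).1 (inv_mem hw))
    convert this using 1
    group
  exact mul_inv_eq_one.1 (hRW _ h2 (mul_mem h1 (inv_mem haR)))

/-- **Fusion of elements of `Q`**. -/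
theorem Setup.fusion (h : Setup T G Q α) {a g : H} (ha : a ∈ Q)
    (hga : g⁻¹ * a * g ∈ (T : Subgroup H)) : ∃ q ∈ Q, g⁻¹ * a * g = q⁻¹ * a * q := by
  haveI := h.normal
  haveI : Fact (Nat.Prime 2) := ⟨Nat.prime_two⟩
  obtain ⟨c, hc, hch⟩ := Transfer.alperin_goldschmidt T {a} g
    (Set.singleton_subset_iff.2 (h.le ha)) (fun b hb => (Set.mem_singleton_iff.1 hb) ▸ hga)
  have hstep : ∀ (A : Set H) (x : H), Transfer.FusionChain (Transfer.IsGoldschmidt T) A x →
      ∀ b ∈ A, b ∈ Q → ∃ q ∈ Q, x⁻¹ * b * x = q⁻¹ * b * q := by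
    intro A x hx
    induction hx with
    | one A => exact fun b _ _ => ⟨1, one_mem _, rfl⟩
    | @step A D x y hD hA hx _ ih =>
      intro b hbA hbQ
      set N := normalizer (D : Set H) with hN
      have hle : N ≤ (G ⊓ N) ⊔ ((T : Subgroup H) ⊓ N) := by
        set L := (G ⊓ N) ⊔ ((T : Subgroup H) ⊓ N) with hL
        have h2 : L.relIndex N ∣ G.index := by
          refine (relIndex_dvd_of_le_left N (le_sup_left : G ⊓ N ≤ L)).trans ?_
          rw [inf_relIndex_right]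
          exact relIndex_dvd_index_of_normal G N
        have hp : IsPGroup 2 (H ⧸ G) := by
          intro z
          obtain ⟨z, rfl⟩ := QuotientGroup.mk'_surjective G z
          obtain ⟨g₀, hg₀, q, hq, rfl⟩ := mem_sup_of_normal_left.1 (h.gen.ge (mem_top z))
          obtain ⟨e, he⟩ := exists_pow_two_eq_one (h.le hq)
          refine ⟨e, ?_⟩
          rw [map_mul, show QuotientGroup.mk' G g₀ = 1 from (QuotientGroup.eq_one_iff g₀).2 hg₀,
            one_mul, ← map_pow, he, map_one]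
        obtain ⟨k, hk⟩ := hp.exists_card_eq
        rw [index_eq_card, hk] at h2
        obtain ⟨j, -, hj⟩ := (Nat.dvd_prime_pow Nat.prime_two).1 h2
        rcases j with _ | j
        · rw [← relIndex_eq_one, hj, pow_zero]
        · exfalso
          refine hD.2.2.2 ?_
          refine dvd_trans ?_ (relIndex_dvd_of_le_left N (le_sup_right : (T : Subgroup H) ⊓ N ≤ L))
          rw [hj]
          exact dvd_pow_self 2 j.succ_ne_zero
      have hGN : (T : Subgroup H) ⊓ N ≤ normalizer ((G ⊓ N : Subgroup H) : Set H) :=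
        ((le_inf (le_top.trans (normalizer_eq_top (H := G)).ge)
          (inf_le_right.trans le_normalizer)).trans inf_normalizer_le_normalizer_inf)
      obtain ⟨m, hm, t, ht, hmt⟩ := (Coprime.mem_sup_iff_of_le_normalizer' hGN).1
        (sup_comm (G ⊓ N) _ ▸ hle hx)
      have h1 : m⁻¹ * b * m = b := by
        have := h.step hD hbQ (hA hbA) (inv_mem hm.2) (inv_mem hm.1)
        simpa using this
      obtain ⟨s, hsT, hsG, q, hq, hsq⟩ := h.eq_mul ht.1
      have h2 : x⁻¹ * b * x = q⁻¹ * b * q := by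
        calc x⁻¹ * b * x = t⁻¹ * (m⁻¹ * b * m) * t := by rw [← hmt]; group
          _ = q⁻¹ * (s⁻¹ * (b * s)) * q := by rw [h1, ← hsq]; group
          _ = q⁻¹ * b * q := by rw [h.comm b hbQ s hsT hsG]; group
      obtain ⟨q', hq', e⟩ := ih (x⁻¹ * b * x) ⟨b, hbA, rfl⟩
        (by rw [h2]; exact mul_mem (mul_mem (inv_mem hq) hbQ) hq)
      refine ⟨q * q', mul_mem hq hq', ?_⟩
      rw [h2] at e
      calc (x * y)⁻¹ * b * (x * y) = y⁻¹ * (x⁻¹ * b * x) * y := by group
        _ = y⁻¹ * (q⁻¹ * b * q) * y := by rw [h2]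
        _ = q'⁻¹ * (q⁻¹ * b * q) * q' := e
        _ = (q * q')⁻¹ * b * (q * q') := by group
  obtain ⟨q, hq, e⟩ := hstep _ _ hch a rfl ha
  refine ⟨q, hq, ?_⟩
  have hca : a * c = c * a := mem_centralizer_iff.1 hc a rfl
  rw [← e]
  calc g⁻¹ * a * g = g⁻¹ * ((a * c) * c⁻¹) * g := by group
    _ = (c⁻¹ * g)⁻¹ * a * (c⁻¹ * g) := by rw [hca]; group

end Cfsg.Agent.SylowCentralAut
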